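import Groth.Agent.CAlgGlobalDim.RegSeq
import Groth.Agent.HomDimLib.RegParam
import Mathlib

/-! Part of a regular system of parameters: regular quotient and regular sequence. -/

set_option autoImplicit false

universe u

open IsLocalRing RingTheory.Sequence

namespace H1RegPar

variable {R : Type u} [CommRing R] [IsRegularLocalRing R]

theorem isRegular_of_linearIndependent {m : ℕ} (f : Fin m → maximalIdeal R)
    (hli : LinearIndependent (ResidueField R) fun i => (maximalIdeal R).toCotangent (f i)) :
    IsRegularLocalRing (R ⧸ Ideal.span (Set.range fun i => (f i : R))) ∧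
      IsRegular R (List.ofFn fun i => (f i : R)) := by
  classical
  refine ⟨((Groth.Agent.HomDimLib.regular_and_independent_iff f).1 ⟨inferInstance, hli⟩).2, ?_⟩
  let v := fun i => (maximalIdeal R).toCotangent (f i)
  let W : Submodule (ResidueField R) (CotangentSpace R) := Submodule.span (ResidueField R) (Set.range v)
  obtain ⟨C, hC⟩ := exists_isCompl W
  let c := Module.finBasis (ResidueField R) C
  choose y hy using fun i => (maximalIdeal R).toCotangent_surjective ((c i : C) : CotangentSpace R)
  let z : Fin m ⊕ Fin (Module.finrank (ResidueField R) C) → maximalIdeal R := Sum.elim f y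
  have htop : Submodule.span (ResidueField R) (Set.range fun i => (maximalIdeal R).toCotangent (z i)) = ⊤ := by
    rw [eq_top_iff, ← hC.sup_eq_top]
    refine sup_le (Submodule.span_mono ?_) ?_
    · rintro _ ⟨i, rfl⟩; exact ⟨Sum.inl i, rfl⟩
    · have hc : Submodule.span (ResidueField R) (Set.range fun i => ((c i : C) : CotangentSpace R)) = C := by
        have := congrArg (Submodule.map C.subtype) c.span_eq
        rw [Submodule.map_span, ← Set.range_comp, Submodule.map_top, Submodule.range_subtype] at this
        exact this
      refine hc.symm.le.trans (Submodule.span_mono ?_)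
      rintro _ ⟨i, rfl⟩
      exact ⟨Sum.inr i, hy i⟩
  have hspan : Ideal.span (Set.range fun i => (z i : R)) = maximalIdeal R :=
    Groth.Agent.HomDimLib.span_eq_of_toCotangent_eq_top z htop
  let ys : List R := (Finset.univ : Finset (Fin (Module.finrank (ResidueField R) C))).toList.map fun i => (y i : R)
  let rs : List R := List.ofFn (fun i => (f i : R)) ++ ys
  have hrs : Ideal.ofList rs = maximalIdeal R := by
    rw [← hspan]
    refine congrArg Ideal.span (Set.ext fun w => ?_)
    simp [rs, ys, z, List.mem_ofFn]
  have hlen : rs.length ≤ (maximalIdeal R).spanFinrank := by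
    rw [spanFinrank_maximalIdeal_eq_finrank_cotangentSpace, ← Submodule.finrank_add_eq_of_isCompl hC]
    have hW : Module.finrank (ResidueField R) W = m := by
      show Module.finrank (ResidueField R) (Submodule.span (ResidueField R) _) = m
      rw [finrank_span_eq_card hli, Fintype.card_fin]
    rw [hW]
    simp [rs, ys]
  have h := Groth.Agent.CAlgGlobalDim.isWeaklyRegular_of_generators rs.length R rs rfl hrs hlen
  refine (Groth.Agent.RegLoc6.isRegular_iff_weakly _ ?_) ((isWeaklyRegular_append_iff R _ _).1 h).1
  intro w hw
  obtain ⟨i, rfl⟩ := List.mem_ofFn.1 hw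
  exact (f i).2

theorem linearIndependent_of_derivations {m : ℕ} (f : Fin m → maximalIdeal R)
    (D : Fin m → Derivation ℤ R R)
    (hdet : IsUnit (Matrix.det (Matrix.of fun i j : Fin m => D i (f j : R)))) :
    LinearIndependent (ResidueField R) fun i => (maximalIdeal R).toCotangent (f i) := by
  classical
  rw [Fintype.linearIndependent_iff]
  intro g hg
  choose r hr using fun i => residue_surjective (g i)
  have hmem : ∑ i, r i * (f i : R) ∈ maximalIdeal R ^ 2 := by
    have h0 : (maximalIdeal R).toCotangent (∑ i, r i • f i) = 0 := by
      rw [← hg, map_sum]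
      refine Finset.sum_congr rfl fun i _ => ?_
      rw [map_smul, ← hr i]
      exact (algebraMap_smul (ResidueField R) (r i) ((maximalIdeal R).toCotangent (f i))).symm
    have h1 := (Ideal.toCotangent_eq_zero _ _).1 h0
    simpa [Submodule.coe_sum] using h1
  have hD : ∀ k, ∑ i, D k (f i : R) * r i ∈ maximalIdeal R := by
    intro k
    have h1 : ∀ x ∈ maximalIdeal R ^ 2, D k x ∈ maximalIdeal R := by
      intro x hx
      rw [pow_two] at hx
      induction hx using Submodule.mul_induction_on' with
      | mem_mul_mem a ha b hb =>
        rw [Derivation.leibniz, smul_eq_mul, smul_eq_mul]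
        exact (maximalIdeal R).add_mem (Ideal.mul_mem_right _ _ ha) (Ideal.mul_mem_right _ _ hb)
      | add a _ b _ ha hb => rw [map_add]; exact (maximalIdeal R).add_mem ha hb
    have h2 := h1 _ hmem
    rw [map_sum] at h2
    have h3 : ∑ i, (f i : R) * D k (r i) ∈ maximalIdeal R :=
      Ideal.sum_mem _ fun i _ => Ideal.mul_mem_right _ _ (f i).2
    have h4 : ∑ i, D k (r i * (f i : R)) = (∑ i, D k (f i : R) * r i) + ∑ i, (f i : R) * D k (r i) := by
      rw [← Finset.sum_add_distrib]
      refine Finset.sum_congr rfl fun i _ => ?_
      rw [Derivation.leibniz, smul_eq_mul, smul_eq_mul]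
      ring
    rw [h4] at h2
    exact (Ideal.add_mem_iff_left _ h3).1 h2
  let M : Matrix (Fin m) (Fin m) (ResidueField R) :=
    (Matrix.of fun i j : Fin m => D i (f j : R)).map (residue R)
  have hM : IsUnit M.det := by
    have h := hdet.map (residue R)
    rwa [RingHom.map_det] at h
  have hv : M.mulVec g = 0 := by
    funext k
    show ∑ i, residue R (D k (f i : R)) * g i = 0
    rw [← (residue_eq_zero_iff _).2 (hD k), map_sum]
    exact Finset.sum_congr rfl fun i _ => by rw [map_mul, hr]
  exact congr_fun (Matrix.eq_zero_of_mulVec_eq_zero hM.ne_zero hv)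

end H1RegPar
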